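import Groth.Agent.SGA4Ind16.LanUnit

/-!
`Ind(u)` is an equivalence iff `u` is fully faithful and every object is a retract of an image.
-/

universe u

set_option linter.style.haveILetI false

open CategoryTheory CategoryTheory.Limits Opposite

namespace Groth.Agent.SGA4Ind16

variable {C : Type u} [SmallCategory C] {C' : Type u} [SmallCategory C'] (u : C ⥤ C')

lemma costructured_hom_map {D : Type u} [SmallCategory D] {A : Dᵒᵖ ⥤ Type u}
    {a b : CostructuredArrow yoneda A} (f : a ⟶ b) :
    A.map f.left.op (yonedaEquiv b.hom) = yonedaEquiv a.hom := by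
  rw [yonedaEquiv_naturality, CostructuredArrow.w f]

/-- The arrow in the category of elements. -/
def mkHom {D : Type u} [SmallCategory D] {A : Dᵒᵖ ⥤ Type u}
    {a b : CostructuredArrow yoneda A} (g : a.left ⟶ b.left)
    (h : A.map g.op (yonedaEquiv b.hom) = yonedaEquiv a.hom) : a ⟶ b :=
  CostructuredArrow.homMk g (yonedaEquiv.injective ((yonedaEquiv_naturality b.hom g).symm.trans h))

variable (hret : ∀ X' : C', ∃ (X : C) (i : X' ⟶ u.obj X) (r : u.obj X ⟶ X'), i ≫ r = 𝟙 X')

include hret in
lemma isIndObject_res [u.Full] [u.Faithful] {G' : C'ᵒᵖ ⥤ Type u} (hG : IsIndObject G') :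
    IsIndObject ((res u).obj G') := by
  haveI := hG.isFiltered
  have cmp : ∀ {x y z : C'} (f : x ⟶ y) (g : y ⟶ z) (e : G'.obj (op z)),
      G'.map (f ≫ g).op e = G'.map f.op (G'.map g.op e) := fun f g e => by simp
  let el : ∀ a : CostructuredArrow yoneda ((res u).obj G'), G'.obj (op (u.obj a.left)) :=
    fun a => (yonedaEquiv (F := (res u).obj G') (X := a.left) a.hom)
  let up : CostructuredArrow yoneda ((res u).obj G') → CostructuredArrow yoneda G' :=
    fun a => CostructuredArrow.mk (yonedaEquiv.symm (el a))
  have hup : ∀ a, yonedaEquiv (up a).hom = el a := fun a =>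
    yonedaEquiv.apply_symm_apply _
  haveI : IsFiltered (CostructuredArrow yoneda ((res u).obj G')) := by
    haveI : IsFilteredOrEmpty (CostructuredArrow yoneda ((res u).obj G')) := by
      refine ⟨fun a b => ?_, fun a b f g => ?_⟩
      · let Z := IsFiltered.max (up a) (up b)
        obtain ⟨X, i, r, hir⟩ := hret Z.left
        have key : ∀ (a : CostructuredArrow yoneda ((res u).obj G')) (g : up a ⟶ Z),
            Nonempty (a ⟶ CostructuredArrow.mk (yonedaEquiv.symm
              (G'.map r.op (yonedaEquiv Z.hom) : ((res u).obj G').obj (op X)))) := fun a g => by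
          refine ⟨mkHom (u.preimage (g.left ≫ i)) ?_⟩
          erw [Equiv.apply_symm_apply]
          change G'.map (u.map (u.preimage (g.left ≫ i))).op _ = _
          rw [Functor.map_preimage]
          erw [← cmp]
          rw [Category.assoc, hir, Category.comp_id, costructured_hom_map g]
          exact hup a
        exact ⟨_, (key a (IsFiltered.leftToMax _ _)).some, (key b (IsFiltered.rightToMax _ _)).some,
          trivial⟩
      · let f' : up a ⟶ up b := mkHom (u.map f.left) (by
          rw [hup, hup]; exact costructured_hom_map f)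
        let g' : up a ⟶ up b := mkHom (u.map g.left) (by
          rw [hup, hup]; exact costructured_hom_map g)
        let Z := IsFiltered.coeq f' g'
        let h := IsFiltered.coeqHom f' g'
        have hh : u.map f.left ≫ h.left = u.map g.left ≫ h.left :=
          congrArg CommaMorphism.left (IsFiltered.coeq_condition f' g')
        obtain ⟨X, i, r, hir⟩ := hret Z.left
        refine ⟨CostructuredArrow.mk (yonedaEquiv.symm
              (G'.map r.op (yonedaEquiv Z.hom) : ((res u).obj G').obj (op X))),
          mkHom (u.preimage (h.left ≫ i)) ?_, ?_⟩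
        · erw [Equiv.apply_symm_apply]
          change G'.map (u.map (u.preimage (h.left ≫ i))).op _ = _
          rw [Functor.map_preimage]
          erw [← cmp]
          rw [Category.assoc, hir, Category.comp_id, costructured_hom_map h]
          exact hup b
        · refine CostructuredArrow.hom_ext _ _ (u.map_injective ?_)
          change u.map (f.left ≫ u.preimage (h.left ≫ i)) = u.map (g.left ≫ u.preimage (h.left ≫ i))
          rw [u.map_comp, u.map_comp, Functor.map_preimage, ← Category.assoc, hh, Category.assoc]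
    haveI : Nonempty (CostructuredArrow yoneda ((res u).obj G')) := by
      obtain ⟨Z⟩ : Nonempty (CostructuredArrow yoneda G') := IsFiltered.nonempty
      obtain ⟨X, i, r, hir⟩ := hret Z.left
      exact ⟨CostructuredArrow.mk (yonedaEquiv.symm
              (G'.map r.op (yonedaEquiv Z.hom) : ((res u).obj G').obj (op X)))⟩
    exact ⟨⟩
  haveI : FinallySmall.{u} (CostructuredArrow yoneda ((res u).obj G')) :=
    FinallySmall.mk' (𝟭 _)
  exact isIndObject_of_isFiltered_of_finallySmall _

include hret in
lemma isIso_counit [u.Full] [u.Faithful] {G' : C'ᵒᵖ ⥤ Type u} (hG : IsIndObject G') :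
    IsIso ((adj u).counit.app G') := by
  have hrep : ∀ X : C, IsIso ((adj u).counit.app (yoneda.obj (u.obj X))) := fun X => by
    haveI : IsIso ((adj u).unit.app (yoneda.obj X)) := by
      rw [NatTrans.isIso_iff_isIso_app]
      exact fun c => (isIso_iff_bijective _).2
        (bijective_unit_of_ind u (isIndObject_yoneda X) (fun X Y => ⟨u.map_injective, u.map_surjective⟩) c)
    haveI : IsIso ((adj u).counit.app ((ext u).obj (yoneda.obj X))) :=
      IsIso.of_isIso_fac_left ((adj u).left_triangle_components (yoneda.obj X))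
    exact (NatTrans.isIso_app_iff_of_iso (adj u).counit (asIso (theta u X))).1 inferInstance
  have hall : ∀ X' : C', IsIso ((adj u).counit.app (yoneda.obj X')) := fun X' => by
    obtain ⟨X, i, r, hir⟩ := hret X'
    haveI := hrep X
    refine ⟨yoneda.map i ≫ inv ((adj u).counit.app (yoneda.obj (u.obj X))) ≫
      (res u ⋙ ext u).map (yoneda.map r), ?_, ?_⟩
    · erw [← Category.assoc, ← (adj u).counit.naturality (yoneda.map i), Category.assoc,
        IsIso.hom_inv_id_assoc, ← Functor.map_comp, ← Functor.map_comp, hir]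
      simp
    · rw [Category.assoc, Category.assoc]
      erw [(adj u).counit.naturality (yoneda.map r), IsIso.inv_hom_id_assoc]
      change yoneda.map i ≫ yoneda.map r = 𝟙 _
      rw [← Functor.map_comp, hir, yoneda.map_id]
  obtain ⟨⟨P⟩⟩ := hG
  haveI : PreservesColimitsOfSize.{u, u} (ext u) := (adj u).leftAdjoint_preservesColimits
  haveI : PreservesColimitsOfShape P.I (res u ⋙ ext u) := comp_preservesColimitsOfShape _ _
  haveI : ∀ i, IsIso ((Functor.whiskerLeft (P.F ⋙ yoneda) (adj u).counit).app i) := fun i => hall _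
  haveI : IsIso (Functor.whiskerLeft (P.F ⋙ yoneda) (adj u).counit) :=
    NatIso.isIso_of_isIso_app _
  have hc := isColimitOfPreserves (res u ⋙ ext u) P.coconeIsColimit
  let e := hc.coconePointsIsoOfNatIso P.coconeIsColimit
    ((asIso (Functor.whiskerLeft (P.F ⋙ yoneda) (adj u).counit)) ≪≫ (P.F ⋙ yoneda).rightUnitor)
  have : (adj u).counit.app G' = e.hom := by
    refine hc.hom_ext fun i => ?_
    refine ((adj u).counit.naturality (P.cocone.ι.app i)).trans ?_
    exact ((hc.comp_coconePointsIsoOfNatIso_hom P.coconeIsColimit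
      ((asIso (Functor.whiskerLeft (P.F ⋙ yoneda) (adj u).counit)) ≪≫ (P.F ⋙ yoneda).rightUnitor) i).trans
        (by simp)).symm
  rw [this]
  infer_instance

theorem indEquivalence_iff :
    ((∀ (F G : Cᵒᵖ ⥤ Type u), IsIndObject F → IsIndObject G →
        Function.Bijective (fun φ : F ⟶ G => (ext u).map φ)) ∧
      (∀ G' : C'ᵒᵖ ⥤ Type u, IsIndObject G' →
        ∃ F : Cᵒᵖ ⥤ Type u, IsIndObject F ∧ Nonempty ((ext u).obj F ≅ G'))) ↔
    ((u.Full ∧ u.Faithful) ∧
      ∀ X' : C', ∃ (X : C) (i : X' ⟶ u.obj X) (r : u.obj X ⟶ X'), i ≫ r = 𝟙 X') := by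
  refine and_congr_left_iff.2 (fun _ => (fullyFaithful_iff u).symm) |>.trans ?_
  refine and_congr_right fun ⟨hfu, hfa⟩ => ⟨fun h X' => ?_, fun h G' hG' => ?_⟩
  · obtain ⟨F, ⟨⟨P⟩⟩, ⟨e⟩⟩ := h (yoneda.obj X') (isIndObject_yoneda X')
    haveI : PreservesColimitsOfSize.{u, u} (ext u) := (adj u).leftAdjoint_preservesColimits
    have hc := isColimitOfPreserves ((evaluation _ (Type u)).obj (op X'))
      (isColimitOfPreserves (ext u) P.coconeIsColimit)
    obtain ⟨k, y, hy⟩ := Types.jointly_surjective _ hc (e.inv.app (op X') (𝟙 X'))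
    let ψ : yoneda.obj (u.obj (P.F.obj k)) ⟶ yoneda.obj X' :=
      inv (theta u (P.F.obj k)) ≫ (ext u).map (P.cocone.ι.app k) ≫ e.hom
    refine ⟨P.F.obj k, (theta u (P.F.obj k)).app (op X') y, yoneda.preimage ψ, ?_⟩
    have e₁ : (yoneda.map (yoneda.preimage ψ)).app (op X') ((theta u (P.F.obj k)).app (op X') y) =
        𝟙 X' := by
      rw [Functor.map_preimage]
      have e₂ : theta u (P.F.obj k) ≫ ψ = (ext u).map (P.cocone.ι.app k) ≫ e.hom :=
        IsIso.hom_inv_id_assoc _ _
      refine (ConcreteCategory.congr_hom (congrArg (fun t => NatTrans.app t (op X')) e₂) y).trans ?_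
      refine (congrArg (e.hom.app (op X')) hy).trans ?_
      exact ConcreteCategory.congr_hom (congrArg (fun t => NatTrans.app t (op X')) e.inv_hom_id) _
    exact e₁
  · haveI := hfu
    haveI := hfa
    haveI := isIso_counit u h hG'
    exact ⟨(res u).obj G', isIndObject_res u h hG', ⟨asIso ((adj u).counit.app G')⟩⟩

end Groth.Agent.SGA4Ind16
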