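import Mathlib.CategoryTheory.Limits.Indization.IndObject
import Mathlib.CategoryTheory.Limits.Presheaf
import Mathlib.CategoryTheory.Limits.Types.Filtered
import Mathlib.CategoryTheory.Adjunction.Limits
import Mathlib.CategoryTheory.Functor.KanExtension.Adjunction

/-!
The unit `G ⟶ u^* u_! G` on representable and ind-representable presheaves.
-/

universe u

set_option linter.style.haveILetI false

open CategoryTheory CategoryTheory.Limits Opposite

namespace Groth.Agent.SGA4Ind16

variable {C : Type u} [SmallCategory C] {C' : Type u} [SmallCategory C'] (u : C ⥤ C')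

/-- `u^*` on presheaves. -/
noncomputable abbrev res : (C'ᵒᵖ ⥤ Type u) ⥤ (Cᵒᵖ ⥤ Type u) :=
  (Functor.whiskeringLeft Cᵒᵖ C'ᵒᵖ (Type u)).obj u.op

/-- `u_!` on presheaves. -/
noncomputable abbrev ext : (Cᵒᵖ ⥤ Type u) ⥤ (C'ᵒᵖ ⥤ Type u) := u.op.lan

/-- The adjunction. -/
noncomputable abbrev adj : ext u ⊣ res u := u.op.lanAdjunction (Type u)

/-- `f ↦ u.map f`. -/
def psi (Y : C) : yoneda.obj Y ⟶ (res u).obj (yoneda.obj (u.obj Y)) where
  app c := ↾ fun f => u.map f
  naturality c d g := by
    refine ConcreteCategory.hom_ext _ _ fun f => ?_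
    exact u.map_comp g.unop f

/-- The adjoint of `psi`. -/
noncomputable def theta (Y : C) : (ext u).obj (yoneda.obj Y) ⟶ yoneda.obj (u.obj Y) :=
  ((adj u).homEquiv _ _).symm (psi u Y)

lemma unit_theta (Y : C) : (adj u).unit.app _ ≫ (res u).map (theta u Y) = psi u Y :=
  ((adj u).homEquiv_unit _ _ _).symm.trans (((adj u).homEquiv _ _).apply_symm_apply _)

instance isIso_theta (Y : C) : IsIso (theta u Y) := by
  refine CategoryTheory.isIso_of_coyoneda_map_bijective (theta u Y) fun F => ?_
  have hb : Function.Bijective fun φ : yoneda.obj (u.obj Y) ⟶ F =>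
      yonedaEquiv ((adj u).homEquiv _ _ (theta u Y ≫ φ)) := by
    have : (fun φ : yoneda.obj (u.obj Y) ⟶ F =>
        yonedaEquiv ((adj u).homEquiv _ _ (theta u Y ≫ φ))) = yonedaEquiv := by
      funext φ
      rw [(adj u).homEquiv_naturality_right, theta, Equiv.apply_symm_apply]
      change φ.app _ (u.map (𝟙 Y)) = φ.app _ (𝟙 (u.obj Y))
      rw [u.map_id]
    rw [this]
    exact yonedaEquiv.bijective
  exact ((((adj u).homEquiv _ F).trans yonedaEquiv).bijective.of_comp_iff' _).1 hb

lemma psi_apply (X Y : C) (f : X ⟶ Y) : (psi u Y).app (op X) f = u.map f := rfl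

lemma unit_yoneda_eq (X Y : C) :
    ∃ e : ((res u).obj ((ext u).obj (yoneda.obj Y))).obj (op X) ≃ (u.obj X ⟶ u.obj Y),
      ∀ f : X ⟶ Y, e (((adj u).unit.app (yoneda.obj Y)).app (op X) f) = u.map f :=
  ⟨(((res u).mapIso (asIso (theta u Y))).app (op X)).toEquiv,
    fun f => (ConcreteCategory.congr_hom (congrArg (fun t => NatTrans.app t (op X)) (unit_theta u Y)) f)⟩

lemma injective_unit_yoneda_iff (X Y : C) :
    Function.Injective (((adj u).unit.app (yoneda.obj Y)).app (op X)) ↔
      Function.Injective (fun f : X ⟶ Y => u.map f) := by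
  obtain ⟨e, he⟩ := unit_yoneda_eq u X Y
  rw [← e.injective.of_comp_iff]
  exact Eq.to_iff (congrArg Function.Injective (funext he))

lemma bijective_unit_yoneda_iff (X Y : C) :
    Function.Bijective (((adj u).unit.app (yoneda.obj Y)).app (op X)) ↔
      Function.Bijective (fun f : X ⟶ Y => u.map f) := by
  obtain ⟨e, he⟩ := unit_yoneda_eq u X Y
  rw [← e.bijective.of_comp_iff' (((adj u).unit.app (yoneda.obj Y)).app (op X))]
  exact Eq.to_iff (congrArg Function.Bijective (funext he))

variable {G : Cᵒᵖ ⥤ Type u}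

/-- The image cocone is colimit. -/
noncomputable def isColimitTransported (P : IndObjectPresentation G) (c : Cᵒᵖ) :
    IsColimit ((res u ⋙ (evaluation _ (Type u)).obj c).mapCocone ((ext u).mapCocone P.cocone)) :=
  haveI : PreservesColimitsOfSize.{u, u} (ext u) := (adj u).leftAdjoint_preservesColimits
  haveI : PreservesColimitsOfShape P.I (res u ⋙ (evaluation _ (Type u)).obj c) :=
    comp_preservesColimitsOfShape _ _
  isColimitOfPreserves _ (isColimitOfPreserves _ P.coconeIsColimit)

lemma unit_natural_apply {F F' : Cᵒᵖ ⥤ Type u} (φ : F ⟶ F') (c : Cᵒᵖ) (a : F.obj c) :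
    ((adj u).unit.app F').app c (φ.app c a) =
      ((res u).map ((ext u).map φ)).app c (((adj u).unit.app F).app c a) :=
  ConcreteCategory.congr_hom (congrArg (fun t => NatTrans.app t c) ((adj u).unit.naturality φ)) a

lemma injective_unit_of_ind (hG : IsIndObject G)
    (h : ∀ X Y : C, Function.Injective (fun f : X ⟶ Y => u.map f)) (c : Cᵒᵖ) :
    Function.Injective (((adj u).unit.app G).app c) := by
  obtain ⟨⟨P⟩⟩ := hG
  have hc := isColimitOfPreserves ((evaluation _ (Type u)).obj c) P.coconeIsColimit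
  intro a b hab
  obtain ⟨i, a, rfl⟩ := Types.jointly_surjective _ hc a
  obtain ⟨j, b, rfl⟩ := Types.jointly_surjective _ hc b
  have e₁ := unit_natural_apply u (P.cocone.ι.app i) c a
  have e₂ := unit_natural_apply u (P.cocone.ι.app j) c b
  obtain ⟨k, f, g, hfg⟩ := (Types.FilteredColimit.isColimit_eq_iff _ (isColimitTransported u P c)).1
    ((e₁.symm.trans hab).trans e₂)
  refine (Types.FilteredColimit.isColimit_eq_iff _ hc).2 ⟨k, f, g, ?_⟩
  refine (injective_unit_yoneda_iff u c.unop (P.F.obj k)).2 (h _ _) ?_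
  exact ((unit_natural_apply u ((P.F ⋙ yoneda).map f) c a).trans hfg).trans (unit_natural_apply u ((P.F ⋙ yoneda).map g) c b).symm

lemma bijective_unit_of_ind (hG : IsIndObject G)
    (h : ∀ X Y : C, Function.Bijective (fun f : X ⟶ Y => u.map f)) (c : Cᵒᵖ) :
    Function.Bijective (((adj u).unit.app G).app c) := by
  refine ⟨injective_unit_of_ind u hG (fun X Y => (h X Y).1) c, fun y => ?_⟩
  obtain ⟨⟨P⟩⟩ := hG
  obtain ⟨i, y, rfl⟩ := Types.jointly_surjective _ (isColimitTransported u P c) y
  obtain ⟨a, rfl⟩ := ((bijective_unit_yoneda_iff u c.unop (P.F.obj i)).2 (h _ _)).2 y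
  exact ⟨(P.cocone.ι.app i).app c a, unit_natural_apply u (P.cocone.ι.app i) c a⟩

lemma map_eq_homEquiv {F : Cᵒᵖ ⥤ Type u} (φ : F ⟶ G) :
    (adj u).homEquiv _ _ ((ext u).map φ) = φ ≫ (adj u).unit.app G := by
  rw [Adjunction.homEquiv_unit, Adjunction.unit_naturality]

theorem faithful_iff :
    u.Faithful ↔ ∀ (F G : Cᵒᵖ ⥤ Type u), IsIndObject F → IsIndObject G →
      Function.Injective (fun φ : F ⟶ G => (ext u).map φ) := by
  constructor
  · intro h F G hF hG φ φ' e
    have e' : φ ≫ (adj u).unit.app G = φ' ≫ (adj u).unit.app G := by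
      rw [← map_eq_homEquiv, ← map_eq_homEquiv]; exact congrArg _ e
    refine NatTrans.ext (funext fun c => ?_)
    ext a
    exact injective_unit_of_ind u hG (fun X Y => u.map_injective) c
      (ConcreteCategory.congr_hom (congrArg (fun t => NatTrans.app t c) e') a)
  · intro h
    refine ⟨fun {X Y} => (injective_unit_yoneda_iff u X Y).1 fun a b e => ?_⟩
    refine yonedaEquiv.symm.injective (h _ _ (isIndObject_yoneda X) (isIndObject_yoneda Y) ?_)
    refine ((adj u).homEquiv _ _).injective ?_
    rw [map_eq_homEquiv, map_eq_homEquiv]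
    refine yonedaEquiv.injective ?_
    rw [yonedaEquiv_comp, yonedaEquiv_comp, Equiv.apply_symm_apply, Equiv.apply_symm_apply]
    exact e

theorem fullyFaithful_iff :
    (u.Full ∧ u.Faithful) ↔ ∀ (F G : Cᵒᵖ ⥤ Type u), IsIndObject F → IsIndObject G →
      Function.Bijective (fun φ : F ⟶ G => (ext u).map φ) := by
  constructor
  · rintro ⟨h₁, h₂⟩ F G hF hG
    haveI : IsIso ((adj u).unit.app G) := by
      rw [NatTrans.isIso_iff_isIso_app]
      exact fun c => (isIso_iff_bijective _).2
        (bijective_unit_of_ind u hG (fun X Y => ⟨u.map_injective, u.map_surjective⟩) c)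
    refine (((adj u).homEquiv F ((ext u).obj G)).bijective.of_comp_iff' _).1 ?_
    rw [show ((adj u).homEquiv F ((ext u).obj G)) ∘ (fun φ : F ⟶ G => (ext u).map φ) =
      fun φ => φ ≫ (adj u).unit.app G from funext fun φ => map_eq_homEquiv u φ]
    exact (asIso ((adj u).unit.app G)).homToEquiv.bijective
  · intro h
    have key : ∀ X Y : C, Function.Bijective (fun f : X ⟶ Y => u.map f) := fun X Y => by
      refine (bijective_unit_yoneda_iff u X Y).1 ?_
      have hb := h _ _ (isIndObject_yoneda X) (isIndObject_yoneda Y)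
      have hb' := (((adj u).homEquiv _ _).trans yonedaEquiv).bijective.comp
        (hb.comp yonedaEquiv.symm.bijective)
      refine (congrArg Function.Bijective (funext fun a : X ⟶ Y => ?_)).mp hb'
      simp only [Function.comp_apply, Equiv.trans_apply, map_eq_homEquiv, yonedaEquiv_comp,
        Equiv.apply_symm_apply]
    exact ⟨⟨fun {X Y} => (key X Y).2⟩, ⟨fun {X Y} => fun _ _ e => (key X Y).1 e⟩⟩

end Groth.Agent.SGA4Ind16
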